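import Groth.Agent.H20Comod.Basic
import Groth.Agent.H7Hopf.ReflexiveHull

/-!
# Comodules over projective coalgebras: cofree comodules, saturation
-/

set_option autoImplicit false
universe u

open TensorProduct HopfRep Groth.Agent.H20Comod

namespace Groth.Agent.H9ComodRes

variable {R : Type u} [CommRing R]

/-- Linear forms separate the points of a projective module. -/
theorem eq_zero_of_forall_dual {P : Type u} [AddCommGroup P] [Module R P] [Module.Projective R P] {x : P}
    (h : ∀ f : P →ₗ[R] R, f x = 0) : x = 0 := by
  obtain ⟨s, hs⟩ := Module.projective_def.mp ‹Module.Projective R P›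
  have hsx : s x = 0 := Finsupp.ext fun i => h (Finsupp.lapply i ∘ₗ s)
  rw [← hs x, hsx, map_zero]

section Slices

variable {A : Type u} [AddCommGroup A] [Module R A] [Module.Projective R A] {V : Type u} [AddCommGroup V] [Module R V]

/-- Over a projective module slices detect elements of a tensor product. -/
theorem eq_zero_of_forall_sliceR {x : V ⊗[R] A} (h : ∀ f : A →ₗ[R] R, sliceR f x = 0) : x = 0 := by
  obtain ⟨s, hs⟩ := Module.projective_def.mp ‹Module.Projective R A›
  have h1 : (Finsupp.linearCombination R (_root_.id : A → A)) ∘ₗ s = LinearMap.id := LinearMap.ext hs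
  have h2 : s.lTensor V x = 0 := H20Comod.eq_zero_of_forall_sliceR fun f => by rw [sliceR_lTensor]; exact h _
  have h3 := congrArg ((Finsupp.linearCombination R (_root_.id : A → A)).lTensor V) h2
  rwa [← LinearMap.comp_apply, ← LinearMap.lTensor_comp, h1, LinearMap.lTensor_id, LinearMap.id_apply, map_zero] at h3

theorem mem_range_rTensor_iff (W : Submodule R V) (x : V ⊗[R] A) :
    x ∈ LinearMap.range (W.subtype.rTensor A) ↔ ∀ f : A →ₗ[R] R, sliceR f x ∈ W := by
  refine ⟨fun hx f => sliceR_mem_of_mem_range hx f, fun h => ?_⟩
  have hex : Function.Exact (W.subtype.rTensor A) (W.mkQ.rTensor A) :=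
    rTensor_exact A (LinearMap.exact_subtype_mkQ W) W.mkQ_surjective
  refine (hex x).1 (eq_zero_of_forall_sliceR fun f => ?_)
  rw [sliceR_rTensor]
  exact (Submodule.Quotient.mk_eq_zero W).2 (h f)

end Slices

section Comod

variable {C : Type u} [AddCommGroup C] [Module R C] [Coalgebra R C]

/-- The cofree comodule on a module. -/
noncomputable abbrev cofree (X : Type u) [AddCommGroup X] [Module R X] : Comod R C (X ⊗[R] C) where
  coact := (TensorProduct.assoc R X C C).symm.toLinearMap ∘ₗ (CoalgebraStruct.comul (R := R) (A := C)).lTensor X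
  coassoc := by
    refine TensorProduct.ext' fun x c => ?_
    simp only [LinearMap.comp_apply, LinearEquiv.coe_coe, LinearMap.lTensor_tmul]
    have hco := Coalgebra.coassoc_apply (R := R) c
    have key : ∀ z : C ⊗[R] C,
        TensorProduct.assoc R (X ⊗[R] C) C C
          (((TensorProduct.assoc R X C C).symm.toLinearMap ∘ₗ (CoalgebraStruct.comul (R := R) (A := C)).lTensor X).rTensor C
            ((TensorProduct.assoc R X C C).symm (x ⊗ₜ z))) =
          (TensorProduct.assoc R X C (C ⊗[R] C)).symm
            (x ⊗ₜ TensorProduct.assoc R C C C ((CoalgebraStruct.comul (R := R) (A := C)).rTensor C z)) ∧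
        (CoalgebraStruct.comul (R := R) (A := C)).lTensor (X ⊗[R] C) ((TensorProduct.assoc R X C C).symm (x ⊗ₜ z)) =
          (TensorProduct.assoc R X C (C ⊗[R] C)).symm
            (x ⊗ₜ (CoalgebraStruct.comul (R := R) (A := C)).lTensor C z) := by
      intro z
      induction z using TensorProduct.induction_on with
      | zero => simp
      | tmul a b =>
        refine ⟨?_, by simp⟩
        simp only [TensorProduct.assoc_symm_tmul, LinearMap.rTensor_tmul, LinearMap.comp_apply, LinearEquiv.coe_coe,
          LinearMap.lTensor_tmul]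
        generalize CoalgebraStruct.comul (R := R) a = w
        induction w using TensorProduct.induction_on with
        | zero => simp
        | tmul p q => simp
        | add p q hp hq =>
          simp only [TensorProduct.tmul_add, TensorProduct.add_tmul, map_add]
          rw [hp, hq]
      | add p q hp hq =>
        simp only [TensorProduct.tmul_add, map_add]
        exact ⟨by rw [hp.1, hq.1], by rw [hp.2, hq.2]⟩
    rw [(key _).1, (key _).2]
    exact congrArg (fun t => (TensorProduct.assoc R X C (C ⊗[R] C)).symm (x ⊗ₜ t)) hco
  counit_comp := by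
    refine TensorProduct.ext' fun x c => ?_
    simp only [LinearMap.comp_apply, LinearEquiv.coe_coe, LinearMap.lTensor_tmul, LinearMap.flip_apply,
      TensorProduct.mk_apply]
    have h := Coalgebra.lTensor_counit_comul (R := R) c
    have key : ∀ z : C ⊗[R] C, (CoalgebraStruct.counit (R := R) (A := C)).lTensor (X ⊗[R] C)
        ((TensorProduct.assoc R X C C).symm (x ⊗ₜ z)) =
        (TensorProduct.assoc R X C R).symm (x ⊗ₜ (CoalgebraStruct.counit (R := R) (A := C)).lTensor C z) := by
      intro z
      induction z using TensorProduct.induction_on with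
      | zero => simp
      | tmul a b => simp
      | add p q hp hq =>
        simp only [TensorProduct.tmul_add, map_add]
        rw [hp, hq]
    rw [key, h, TensorProduct.assoc_symm_tmul]

theorem cofree_coact (X : Type u) [AddCommGroup X] [Module R X] (y : X ⊗[R] C) :
    (cofree (C := C) X).coact y =
      (TensorProduct.assoc R X C C).symm ((CoalgebraStruct.comul (R := R) (A := C)).lTensor X y) := rfl

variable [Module.Projective R C] {V : Type u} [AddCommGroup V] [Module R V] [Comod R C V]

theorem isSubcomod_of_actL {W : Submodule R V} (h : ∀ v ∈ W, ∀ f : C →ₗ[R] R, actL f v ∈ W) :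
    IsSubcomod (k := R) (A := C) W := fun v hv => (mem_range_rTensor_iff W _).mpr (h v hv)

theorem isSubcomod_gen' (s : Set V) : IsSubcomod (k := R) (A := C) (gen R C s) := by
  refine isSubcomod_of_actL fun x hx f => ?_
  have : gen R C s ≤ (gen R C s).comap (actL f) := by
    rw [gen, Submodule.span_le]
    rintro _ ⟨g, v, hv, rfl⟩
    exact Submodule.subset_span ⟨conv f g, v, hv, actL_conv f g v⟩
  exact this hx

/-- The structure on a subcomodule. -/
noncomputable abbrev subComod (W : Submodule R V) (hW : IsSubcomod (k := R) (A := C) W) : Comod R C W :=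
  have hinj : Function.Injective (W.subtype.rTensor C) :=
    Module.Flat.rTensor_preserves_injective_linearMap W.subtype W.injective_subtype
  let co : W →ₗ[R] W ⊗[R] C :=
    (LinearEquiv.ofInjective (W.subtype.rTensor C) hinj).symm.toLinearMap ∘ₗ
      ((Comod.coact (k := R) (A := C) (V := V)) ∘ₗ W.subtype).codRestrict _ (fun w => hW w w.2)
  have hco : W.subtype.rTensor C ∘ₗ co = Comod.coact (k := R) (A := C) ∘ₗ W.subtype := LinearMap.ext fun w =>
    congrArg Subtype.val ((LinearEquiv.ofInjective (W.subtype.rTensor C) hinj).apply_symm_apply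
      (((Comod.coact (k := R) (A := C) (V := V)) ∘ₗ W.subtype).codRestrict _ (fun w => hW w w.2) w))
  { coact := co
    coassoc := by
      refine LinearMap.ext fun w => ?_
      apply Module.Flat.rTensor_preserves_injective_linearMap (M := C ⊗[R] C) W.subtype W.injective_subtype
      have h := LinearMap.congr_fun (Comod.coassoc (k := R) (A := C) (V := V)) (w : V)
      have h1 := LinearMap.congr_fun hco w
      simp only [LinearMap.comp_apply, LinearEquiv.coe_coe, Submodule.coe_subtype] at h h1 ⊢
      rw [← h1, ← LinearMap.comp_apply, ← LinearMap.rTensor_comp, ← hco, LinearMap.rTensor_comp, LinearMap.comp_apply] at h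
      have ha : ∀ z : (W ⊗[R] C) ⊗[R] C, TensorProduct.assoc R V C C ((W.subtype.rTensor C).rTensor C z) =
          W.subtype.rTensor (C ⊗[R] C) (TensorProduct.assoc R W C C z) := by
        intro z
        induction z using TensorProduct.induction_on with
        | zero => simp
        | tmul p q =>
          induction p using TensorProduct.induction_on with
          | zero => simp
          | tmul a b => simp
          | add a b ha hb => simp only [LinearMap.rTensor_tmul, map_add, TensorProduct.add_tmul] at ha hb ⊢; rw [ha, hb]
        | add p q hp hq => simp only [map_add]; rw [hp, hq]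
      rw [ha] at h
      rw [h, ← LinearMap.comp_apply, LinearMap.lTensor_comp_rTensor, ← LinearMap.rTensor_comp_lTensor]
      rfl
    counit_comp := by
      refine LinearMap.ext fun w => ?_
      apply Module.Flat.rTensor_preserves_injective_linearMap (M := R) W.subtype W.injective_subtype
      have h := LinearMap.congr_fun (Comod.counit_comp (k := R) (A := C) (V := V)) (w : V)
      have h1 := LinearMap.congr_fun hco w
      simp only [LinearMap.comp_apply, Submodule.coe_subtype, LinearMap.flip_apply, TensorProduct.mk_apply,
        LinearMap.rTensor_tmul] at h h1 ⊢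
      rw [← h1] at h
      rw [← LinearMap.comp_apply, LinearMap.rTensor_comp_lTensor, ← LinearMap.lTensor_comp_rTensor, LinearMap.comp_apply]
      exact h }

theorem subComod_coact (W : Submodule R V) (hW : IsSubcomod (k := R) (A := C) W) (w : W) :
    W.subtype.rTensor C ((subComod W hW).coact w) = Comod.coact (k := R) (A := C) (w : V) :=
  congrArg Subtype.val ((LinearEquiv.ofInjective (W.subtype.rTensor C)
    (Module.Flat.rTensor_preserves_injective_linearMap W.subtype W.injective_subtype)).apply_symm_apply
      (((Comod.coact (k := R) (A := C) (V := V)) ∘ₗ W.subtype).codRestrict _ (fun w => hW w w.2) w))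

end Comod

/-- The saturation of a finite submodule of a projective module is finite projective, in dimension at most two. -/
theorem finite_projective_biannihilator [IsRegularRing R] (hdim : ringKrullDim R ≤ 2) {M : Type u} [AddCommGroup M]
    [Module R M] [Module.Projective R M] (E : Submodule R M) (hE : E.FG) (S : Submodule R M)
    (hS : ∀ x, x ∈ S ↔ ∀ f : M →ₗ[R] R, E ≤ LinearMap.ker f → f x = 0) :
    Module.Finite R S ∧ Module.Projective R S := by
  classical
  obtain ⟨s, hs⟩ := Module.projective_def.mp ‹Module.Projective R M›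
  let lc := Finsupp.linearCombination R (_root_.id : M → M)
  obtain ⟨T, hT⟩ : ∃ T : Finset M, E.map s ≤ Finsupp.supported R R (T : Set M) := by
    obtain ⟨G, hG⟩ := hE
    refine ⟨G.biUnion fun g => (s g).support, ?_⟩
    rw [← hG, Submodule.map_span, Submodule.span_le]
    rintro _ ⟨g, hg, rfl⟩
    exact (Finsupp.mem_supported R _).mpr (Finset.coe_subset.mpr
      (Finset.subset_biUnion_of_mem (fun g => (s g).support) hg))
  let j : (T → R) →ₗ[R] M := Fintype.linearCombination R (fun t : T => (t : M))
  let r : M →ₗ[R] (T → R) := LinearMap.pi fun t => Finsupp.lapply (t : M) ∘ₗ s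
  have hS' : ∀ x ∈ S, j (r x) = x := by
    intro x hx
    have hsupp : (s x).support ⊆ T := fun i hi => by
      by_contra hiT
      refine Finsupp.mem_support_iff.mp hi ((hS x).mp hx (Finsupp.lapply i ∘ₗ s) fun e he => ?_)
      show s e i = 0
      exact Finsupp.notMem_support_iff.mp fun h => hiT ((Finsupp.mem_supported R _).mp (hT (Submodule.mem_map_of_mem he)) h)
    conv_rhs => rw [← hs x, Finsupp.linearCombination_apply, Finsupp.sum_of_support_subset _ hsupp _ (by simp)]
    rw [Fintype.linearCombination_apply, ← Finset.sum_coe_sort T]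
    rfl
  let Ann := (E.map r).dualAnnihilator
  obtain ⟨b, g, hg⟩ := Submodule.fg_iff_exists_fin_generating_family.mp (IsNoetherian.noetherian Ann)
  let Φ : (T → R) →ₗ[R] (Fin b → R) := LinearMap.pi g
  have hker : ∀ v, v ∈ LinearMap.ker Φ ↔ ∀ μ ∈ Ann, μ v = 0 := fun v => by
    rw [LinearMap.mem_ker]
    refine ⟨fun h μ hμ => ?_, fun h => funext fun i => h (g i) (hg ▸ Submodule.subset_span ⟨i, rfl⟩)⟩
    rw [← hg] at hμ
    induction hμ using Submodule.span_induction with
    | mem x hx => obtain ⟨i, rfl⟩ := hx; exact congrFun h i
    | zero => rfl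
    | add x y _ _ hx hy => rw [LinearMap.add_apply, hx, hy, add_zero]
    | smul c x _ hx => rw [LinearMap.smul_apply, hx, smul_zero]
  have hrS : ∀ x ∈ S, r x ∈ LinearMap.ker Φ := fun x hx => (hker _).mpr fun μ hμ =>
    (hS x).mp hx (μ ∘ₗ r) fun e he => (Submodule.mem_dualAnnihilator μ).mp hμ _ (Submodule.mem_map_of_mem he)
  have hES : E ≤ S := fun e he => (hS e).mpr fun f hf => hf he
  have hjS : ∀ v ∈ LinearMap.ker Φ, j v ∈ S := fun v hv => (hS _).mpr fun f hf => by
    refine (hker v).mp hv (f ∘ₗ j) ((Submodule.mem_dualAnnihilator _).mpr ?_)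
    rintro _ ⟨e, he, rfl⟩
    show f (j (r e)) = 0
    rw [hS' e (hES he)]
    exact hf he
  have hrj : ∀ v ∈ LinearMap.ker Φ, r (j v) = v := fun v hv => funext fun t =>
    sub_eq_zero.mp ((hker v).mp hv (LinearMap.proj t ∘ₗ r ∘ₗ j - LinearMap.proj t) <|
      (Submodule.mem_dualAnnihilator _).mpr (by
        rintro _ ⟨e, he, rfl⟩
        show r (j (r e)) t - r e t = 0
        rw [hS' e (hES he), sub_self]))
  haveI : Module.Projective R (LinearMap.ker Φ) := H7Hopf.projective_ker hdim Φ
  let e : LinearMap.ker Φ ≃ₗ[R] S := LinearEquiv.ofLinear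
    ((j ∘ₗ (LinearMap.ker Φ).subtype).codRestrict S fun v => hjS v v.2)
    ((r ∘ₗ S.subtype).codRestrict (LinearMap.ker Φ) fun x => hrS x x.2)
    (LinearMap.ext fun x => Subtype.ext (hS' x x.2)) (LinearMap.ext fun v => Subtype.ext (hrj v v.2))
  exact ⟨Module.Finite.equiv e, Module.Projective.of_equiv e⟩

end Groth.Agent.H9ComodRes
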