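import Groth.Agent.H7Hopf.Corep
import Groth.Prelude.Def_HopfRep

/-!
# Linear embedding from the equivariant resolution property
-/

set_option autoImplicit false
set_option linter.style.haveILetI false
universe u

open TensorProduct Coalgebra Groth.Agent.H7Hopf

namespace Groth.Agent.H9ComodRes

variable {R : Type u} [CommRing R] {A : Type u} [CommRing A] [HopfAlgebra R A]

theorem isCoaction_coact (E : Type u) [AddCommGroup E] [Module R E] [HopfRep.Comod R A E] :
    IsCoaction (HopfRep.Comod.coact (k := R) (A := A) (V := E)) := by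
  refine ⟨HopfRep.Comod.coassoc, LinearMap.ext fun v => ?_⟩
  have h := LinearMap.congr_fun (HopfRep.Comod.counit_comp (k := R) (A := A) (V := E)) v
  simp only [LinearMap.comp_apply, LinearMap.flip_apply, TensorProduct.mk_apply] at h
  simp [h]

theorem exists_linear [IsNoetherianRing R] [Module.Flat R A] [Algebra.FiniteType R A]
    (hRE : ∀ (F : Type u) [AddCommGroup F] [Module R F] [HopfRep.Comod R A F] [Module.Finite R F],
      ∃ (E : Type u) (_ : AddCommGroup E) (_ : Module R E) (_ : HopfRep.Comod R A E) (π : E →ₗ[R] F),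
        Module.Finite R E ∧ Module.Projective R E ∧ Function.Surjective π ∧
        HopfRep.Comod.coact (k := R) (A := A) ∘ₗ π = π.rTensor A ∘ₗ HopfRep.Comod.coact (k := R) (A := A) (V := E)) :
    ∃ (d : ℕ) (a : Matrix (Fin d) (Fin d) A),
      (∀ i j, comul (R := R) (a i j) = ∑ l, a i l ⊗ₜ[R] a l j) ∧
      (∀ i j, counit (R := R) (a i j) = if i = j then 1 else 0) ∧
      ∃ u : A, u * a.det = 1 ∧ Algebra.adjoin R (Set.range (fun p : Fin d × Fin d => a p.1 p.2) ∪ {u}) = ⊤ := by
  obtain ⟨G, hG⟩ := Algebra.FiniteType.out (R := R) (A := A)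
  obtain ⟨N, ρ, hfg, hGN, hρι, hρ⟩ := exists_subcomodule (R := R) G
  haveI : Module.Finite R N := Module.Finite.of_fg hfg
  letI : HopfRep.Comod R A N :=
    { coact := ρ
      coassoc := hρ.coassoc
      counit_comp := LinearMap.ext fun v => (TensorProduct.rid R N).injective (by
        have h := LinearMap.congr_fun hρ.counit v
        simp only [LinearMap.comp_apply, LinearEquiv.coe_coe, LinearMap.id_apply] at h
        simp only [LinearMap.comp_apply, LinearMap.flip_apply, TensorProduct.mk_apply, TensorProduct.rid_tmul, one_smul]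
        exact h) }
  obtain ⟨E, _, _, _, π, hfin, hproj, hsurj, hπ⟩ := hRE N
  haveI := hfin
  haveI := hproj
  obtain ⟨d, r, hr⟩ := Module.Finite.exists_fin' R E
  obtain ⟨i, hi⟩ := Module.projective_lifting_property r LinearMap.id hr
  obtain ⟨τ, hτi, hτ⟩ := exists_coaction_free (isCoaction_coact (A := A) E) i r hi
  obtain ⟨u, hu⟩ := exists_mul_det_coefMatrix hτ
  refine ⟨d, coefMatrix τ, comul_coefMatrix hτ, counit_coefMatrix hτ, u, hu, top_le_iff.mp ?_⟩
  rw [← hG]
  refine Algebra.adjoin_le fun x hx => ?_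
  obtain ⟨e, he⟩ := hsurj ⟨x, hGN hx⟩
  let c : E →ₗ[R] R := (counit (R := R)).comp (N.subtype ∘ₗ π)
  have key : TensorProduct.lid R A ((c ∘ₗ r).rTensor A (τ (i e))) = x := by
    have h := LinearMap.congr_fun hπ e
    simp only [LinearMap.comp_apply] at h
    rw [← LinearMap.comp_apply τ i, hτi, LinearMap.comp_apply,
      ← LinearMap.comp_apply ((c ∘ₗ r).rTensor A) (i.rTensor A), ← LinearMap.rTensor_comp,
      LinearMap.comp_assoc, hi, LinearMap.comp_id]
    show TensorProduct.lid R A (((counit (R := R) (A := A)).comp (N.subtype ∘ₗ π)).rTensor A _) = x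
    rw [LinearMap.rTensor_comp, LinearMap.comp_apply, LinearMap.rTensor_comp, LinearMap.comp_apply, ← h]
    show TensorProduct.lid R A ((counit (R := R) (A := A)).rTensor A (N.subtype.rTensor A (ρ (π e)))) = x
    rw [← LinearMap.comp_apply (N.subtype.rTensor A), hρι, LinearMap.comp_apply, rTensor_counit_comul, he]
    simp
  rw [← key]
  exact lid_rTensor_mem_adjoin _ _ u

end Groth.Agent.H9ComodRes
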