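import Groth.Agent.H9ComodRes.Basic

/-!
# Finite comodules are quotients of finite projective comodules, in dimension at most two
-/

set_option autoImplicit false
universe u

open TensorProduct HopfRep Groth.Agent.H20Comod

namespace Groth.Agent.H9ComodRes

variable {R : Type u} [CommRing R] {C : Type u} [AddCommGroup C] [Module R C] [Coalgebra R C]

theorem rTensor_rTensor_cofree {X Y : Type u} [AddCommGroup X] [Module R X] [AddCommGroup Y] [Module R Y]
    (g : X →ₗ[R] Y) (y : X ⊗[R] C) :
    (g.rTensor C).rTensor C ((cofree X).coact y) = (cofree Y).coact (g.rTensor C y) := by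
  induction y using TensorProduct.induction_on with
  | zero => simp
  | tmul x c =>
    rw [LinearMap.rTensor_tmul, cofree_coact, cofree_coact, LinearMap.lTensor_tmul, LinearMap.lTensor_tmul]
    induction CoalgebraStruct.comul (R := R) c using TensorProduct.induction_on with
    | zero => simp
    | tmul a b => simp
    | add a b ha hb =>
      simp only [TensorProduct.tmul_add, map_add]
      rw [ha, hb]
  | add a b ha hb => simp only [map_add]; rw [ha, hb]

theorem sliceR_counit_cofree {X : Type u} [AddCommGroup X] [Module R X] (y : X ⊗[R] C) :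
    (sliceR (V := X) (CoalgebraStruct.counit (R := R) (A := C))).rTensor C ((cofree X).coact y) = y := by
  induction y using TensorProduct.induction_on with
  | zero => simp
  | tmul x c =>
    rw [cofree_coact, LinearMap.lTensor_tmul]
    have h := congrArg (fun t => x ⊗ₜ[R] TensorProduct.lid R C t) (Coalgebra.rTensor_counit_comul (R := R) c)
    simp only [TensorProduct.lid_tmul, one_smul] at h
    conv_rhs => rw [← h]
    clear h
    induction CoalgebraStruct.comul (R := R) c using TensorProduct.induction_on with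
    | zero => simp
    | tmul a b => simp [TensorProduct.smul_tmul]
    | add a b ha hb =>
      simp only [TensorProduct.tmul_add, map_add]
      rw [ha, hb]
  | add a b ha hb => simp only [map_add]; rw [ha, hb]

variable {F : Type u} [AddCommGroup F] [Module R F] [Comod R C F]

theorem cofree_coact_coact (f : F) :
    (cofree F).coact (Comod.coact (k := R) (A := C) f) =
      (Comod.coact (k := R) (A := C) (V := F)).rTensor C (Comod.coact (k := R) (A := C) f) := by
  have h := LinearMap.congr_fun (Comod.coassoc (k := R) (A := C) (V := F)) f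
  simp only [LinearMap.comp_apply, LinearEquiv.coe_coe] at h
  rw [cofree_coact, ← h, LinearEquiv.symm_apply_apply]

variable [Module.Projective R C]

/-- A subcomodule of a cofree comodule mapping onto a finite comodule. -/
theorem exists_stage [IsNoetherianRing R] [Module.Finite R F] {X : Type u} [AddCommGroup X] [Module R X]
    (π0 : X →ₗ[R] F) (hπ0 : Function.Surjective π0) :
    letI := cofree (R := R) (C := C) X
    let θ0 : X ⊗[R] C →ₗ[R] F := sliceR (CoalgebraStruct.counit (R := R) (A := C)) ∘ₗ π0.rTensor C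
    ∃ W : Submodule R (X ⊗[R] C), W.FG ∧ IsSubcomod (k := R) (A := C) W ∧
      (∀ f : F, ∃ w ∈ W, θ0 w = f) ∧ ∀ w ∈ W, Comod.coact (k := R) (A := C) (θ0 w) = π0.rTensor C w := by
  letI := cofree (R := R) (C := C) X
  intro θ0
  classical
  have hθ : ∀ (f : F) (w : X ⊗[R] C), π0.rTensor C w = Comod.coact (k := R) (A := C) f → θ0 w = f := fun f w h => by
    show sliceR _ (π0.rTensor C w) = f
    rw [h]
    exact actL_counit f
  obtain ⟨G, hG⟩ := Module.Finite.fg_top (R := R) (M := F)
  have hsurj := LinearMap.rTensor_surjective C hπ0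
  choose l hl using fun f : F => hsurj (Comod.coact (k := R) (A := C) f)
  refine ⟨gen R C (l '' (G : Set F)), ?_, isSubcomod_gen' _, fun f => ?_, fun w hw => ?_⟩
  · haveI := finite_gen (k := R) (A := C) (G.finite_toSet.image l)
    exact Module.Finite.iff_fg.mp inferInstance
  · have hle : (⊤ : Submodule R F) ≤ (gen R C (l '' (G : Set F))).map θ0 := by
      rw [← hG, Submodule.span_le]
      exact fun g hg => ⟨l g, subset_gen _ ⟨g, hg, rfl⟩, hθ g _ (hl g)⟩
    obtain ⟨w, hw, h⟩ := hle (Submodule.mem_top : f ∈ ⊤)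
    exact ⟨w, hw, h⟩
  · obtain ⟨f, hf⟩ : ∃ f, π0.rTensor C w = Comod.coact (k := R) (A := C) f := by
      rw [gen] at hw
      induction hw using Submodule.span_induction with
      | mem x hx =>
        obtain ⟨a, _, ⟨g, -, rfl⟩, rfl⟩ := hx
        refine ⟨actL a g, ?_⟩
        have h1 := rTensor_rTensor_cofree π0 (l g)
        rw [hl, cofree_coact_coact] at h1
        have h2 := congrArg (sliceR a) h1
        rw [sliceR_rTensor, sliceR_rTensor] at h2
        exact h2
      | zero => exact ⟨0, by rw [map_zero, map_zero]⟩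
      | add x y _ _ hx hy =>
        obtain ⟨f, hf⟩ := hx
        obtain ⟨g, hg⟩ := hy
        exact ⟨f + g, by rw [map_add, map_add, hf, hg]⟩
      | smul c x _ hx =>
        obtain ⟨f, hf⟩ := hx
        exact ⟨c • f, by rw [map_smul, map_smul, hf]⟩
    rw [hθ f w hf, hf]

/-- The comparison map restricted to a subcomodule is a map of comodules. -/
theorem hom_stage {X : Type u} [AddCommGroup X] [Module R X] (π0 : X →ₗ[R] F) (W : Submodule R (X ⊗[R] C))
    (hW : letI := cofree (R := R) (C := C) X; IsSubcomod (k := R) (A := C) W)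
    (h : ∀ w ∈ W, Comod.coact (k := R) (A := C)
      ((sliceR (CoalgebraStruct.counit (R := R) (A := C)) ∘ₗ π0.rTensor C : X ⊗[R] C →ₗ[R] F) w) = π0.rTensor C w) :
    letI := cofree (R := R) (C := C) X
    Comod.coact (k := R) (A := C) ∘ₗ ((sliceR (CoalgebraStruct.counit (R := R) (A := C)) ∘ₗ π0.rTensor C) ∘ₗ W.subtype) =
      ((sliceR (CoalgebraStruct.counit (R := R) (A := C)) ∘ₗ π0.rTensor C) ∘ₗ W.subtype).rTensor C ∘ₗ (subComod W hW).coact := by
  letI := cofree (R := R) (C := C) X
  refine LinearMap.ext fun w => (h w w.2).trans ?_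
  rw [LinearMap.comp_apply, LinearMap.rTensor_comp, LinearMap.comp_apply, subComod_coact, LinearMap.rTensor_comp,
    LinearMap.comp_apply]
  refine Eq.trans ?_ (congrArg _ (rTensor_rTensor_cofree π0 (w : X ⊗[R] C)).symm)
  exact (sliceR_counit_cofree _).symm

/-- A finite comodule inside a projective module is a quotient of a finite projective comodule. -/
theorem exists_cover_of_embedding [IsRegularRing R] (hdim : ringKrullDim R ≤ 2) [Module.Finite R F]
    {P : Type u} [AddCommGroup P] [Module R P] [Module.Projective R P] (ι : F →ₗ[R] P) (hι : Function.Injective ι) :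
    ∃ (V : Type u) (_ : AddCommGroup V) (_ : Module R V) (_ : Comod R C V) (φ : V →ₗ[R] F),
      Module.Finite R V ∧ Module.Projective R V ∧ Function.Surjective φ ∧
        Comod.coact (k := R) (A := C) ∘ₗ φ = φ.rTensor C ∘ₗ Comod.coact (k := R) (A := C) (V := V) := by
  obtain ⟨m, π₂, hπ₂⟩ := Module.Finite.exists_fin' R F
  letI iM := cofree (R := R) (C := C) (Fin m → R)
  obtain ⟨E₂, hfg, hsub, hsurj, hcoact⟩ := exists_stage (C := C) π₂ hπ₂
  let θ0 : (Fin m → R) ⊗[R] C →ₗ[R] F := sliceR (CoalgebraStruct.counit (R := R) (A := C)) ∘ₗ π₂.rTensor C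
  let S : Submodule R ((Fin m → R) ⊗[R] C) :=
    ⨅ f : {f : (Fin m → R) ⊗[R] C →ₗ[R] R // E₂ ≤ LinearMap.ker f}, LinearMap.ker f.1
  have hS : ∀ x, x ∈ S ↔ ∀ f : (Fin m → R) ⊗[R] C →ₗ[R] R, E₂ ≤ LinearMap.ker f → f x = 0 := fun x => by
    simp [S, Submodule.mem_iInf, LinearMap.mem_ker]
  obtain ⟨hfin, hproj⟩ := finite_projective_biannihilator hdim E₂ hfg S hS
  have hSsub : IsSubcomod (k := R) (A := C) S := by
    refine isSubcomod_of_actL fun v hv a => (hS _).mpr fun f hf => ?_
    exact (hS v).mp hv (f ∘ₗ actL a) fun e he => hf (actL_mem_of_isSubcomod hsub a he)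
  have hScoact : ∀ x ∈ S, Comod.coact (k := R) (A := C) (θ0 x) = π₂.rTensor C x := fun x hx => by
    let d : (Fin m → R) ⊗[R] C →ₗ[R] P ⊗[R] C :=
      ι.rTensor C ∘ₗ (Comod.coact (k := R) (A := C) ∘ₗ θ0 - π₂.rTensor C)
    have hdx : d x = 0 := eq_zero_of_forall_dual fun f => (hS x).mp hx (f ∘ₗ d) fun e he => by
      show f (ι.rTensor C (Comod.coact (k := R) (A := C) (θ0 e) - π₂.rTensor C e)) = 0
      rw [hcoact e he, sub_self, map_zero, map_zero]
    exact sub_eq_zero.mp (Module.Flat.rTensor_preserves_injective_linearMap ι hι (hdx.trans (map_zero _).symm))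
  refine ⟨S, inferInstance, inferInstance, subComod S hSsub, θ0 ∘ₗ S.subtype, hfin, hproj, fun e => ?_,
    hom_stage π₂ S hSsub hScoact⟩
  obtain ⟨w, hw, h⟩ := hsurj e
  exact ⟨⟨w, (hS w).mpr fun f hf => hf hw⟩, h⟩

/-- Every finite comodule is a quotient of a finite projective one. -/
theorem exists_projective_cover [IsRegularRing R] (hdim : ringKrullDim R ≤ 2) [Module.Finite R F] :
    ∃ (V : Type u) (_ : AddCommGroup V) (_ : Module R V) (_ : Comod R C V) (φ : V →ₗ[R] F),
      Module.Finite R V ∧ Module.Projective R V ∧ Function.Surjective φ ∧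
        Comod.coact (k := R) (A := C) ∘ₗ φ = φ.rTensor C ∘ₗ Comod.coact (k := R) (A := C) (V := V) := by
  obtain ⟨n, π₁, hπ₁⟩ := Module.Finite.exists_fin' R F
  letI := cofree (R := R) (C := C) (Fin n → R)
  obtain ⟨E, hEfg, hEsub, hEsurj, hEcoact⟩ := exists_stage (C := C) π₁ hπ₁
  letI := subComod E hEsub
  haveI : Module.Finite R E := Module.Finite.iff_fg.mpr hEfg
  obtain ⟨V, i1, i2, i3, φ, hfin, hproj, hsurj, hφ⟩ :=
    exists_cover_of_embedding (C := C) hdim (F := E) (P := (Fin n → R) ⊗[R] C) E.subtype Subtype.val_injective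
  refine ⟨V, i1, i2, i3, ((sliceR (CoalgebraStruct.counit (R := R) (A := C)) ∘ₗ π₁.rTensor C) ∘ₗ E.subtype) ∘ₗ φ,
    hfin, hproj, ?_, ?_⟩
  · intro f
    obtain ⟨w, hw, h⟩ := hEsurj f
    obtain ⟨v, hv⟩ := hsurj ⟨w, hw⟩
    exact ⟨v, by rw [LinearMap.comp_apply, hv]; exact h⟩
  · rw [← LinearMap.comp_assoc, hom_stage π₁ E hEsub hEcoact, LinearMap.comp_assoc, hφ, ← LinearMap.comp_assoc,
      ← LinearMap.rTensor_comp]

end Groth.Agent.H9ComodRes
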